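import Mathlib
import Groth.Prelude.Def_DCoh4
import Groth.Prelude.Def_CohB1
import Groth.Prelude.Def_FlatMod2
import Groth.Prelude.Def_Coh
import Groth.Agent.Lib.Helper5.Misc.TensorSheaf
import Groth.Agent.Lib.Helper5.LTen.Flf
import Groth.Agent.Lib.Helper5.Perf.Pull

/-!
# The resolution property from an `f`-generating family of vector bundles (helper5)
-/
set_option autoImplicit false
set_option linter.unusedSectionVars false
set_option linter.unusedVariables false
set_option linter.style.haveILetI false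
universe u
open CategoryTheory CategoryTheory.Limits AlgebraicGeometry

namespace Groth.Agent.Lib.Helper5.ResGen

variable {X Y : Scheme.{u}}

/-- `W ⊗ f^*(-)` -/
noncomputable abbrev G (f : X ⟶ Y) (W : X.Modules) : Y.Modules ⥤ X.Modules :=
  Scheme.Modules.pullback f ⋙ DCoh.tensorBi.obj W

instance (f : X ⟶ Y) (W : X.Modules) : PreservesColimitsOfSize.{u, u} (G f W) := by
  haveI : PreservesColimitsOfSize.{u, u} (Scheme.Modules.pullback f) :=
    (Scheme.Modules.pullbackPushforwardAdjunction f).leftAdjoint_preservesColimits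
  haveI : PreservesColimitsOfSize.{u, u} ((DCoh.tensorBi (X := X)).obj W) :=
    Groth.Agent.Lib.Helper5.TensorSheaf.tensorBi_obj_preservesColimits (O := X.sheaf) W
  exact inferInstanceAs (PreservesColimitsOfSize.{u, u}
    (Scheme.Modules.pullback f ⋙ DCoh.tensorBi.obj W))

instance (f : X ⟶ Y) (W : X.Modules) : (G f W).PreservesEpimorphisms := by
  haveI : PreservesFiniteColimits (G f W) := PreservesColimitsOfSize.preservesFiniteColimits _
  infer_instance

theorem resolution_of_fGenerating (f : X ⟶ Y)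
    (hY : ∀ N : Y.Modules, Coh.IsQCoh N →
      ∃ (κ : Type u) (V : κ → Y.Modules) (π : (∐ V) ⟶ N), (∀ k, FlatMod.IsFinLocFree (V k)) ∧ Epi π)
    {ι : Type u} (W : ι → X.Modules) (hW : ∀ i, FlatMod.IsFinLocFree (W i))
    (hf : ∀ M : X.Modules, Coh.IsQCoh M →
      ∃ (κ : Type u) (j : κ → ι) (N : κ → Y.Modules)
        (π : (∐ fun k => CohB1.tensorMod (W (j k)) ((Scheme.Modules.pullback f).obj (N k))) ⟶ M),
        (∀ k, Coh.IsQCoh (N k)) ∧ Epi π) :
    ∀ M : X.Modules, Coh.IsQCoh M →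
      ∃ (κ : Type u) (E : κ → X.Modules) (π : (∐ E) ⟶ M),
        (∀ k, FlatMod.IsFinLocFree (E k)) ∧ Epi π := by
  intro M hM
  obtain ⟨κ, j, N, π, hN, hπ⟩ := hf M hM
  choose κ' V p hV hp using fun k => hY (N k) (hN k)
  haveI : ∀ k, Epi (p k) := hp
  let e : ∀ k, (G f (W (j k))).obj (∐ V k) ≅ ∐ fun l => (G f (W (j k))).obj (V k l) :=
    fun k => PreservesCoproduct.iso (G f (W (j k))) (V k)
  let q : ∀ k, (∐ fun l => (G f (W (j k))).obj (V k l)) ⟶ (G f (W (j k))).obj (N k) :=
    fun k => (e k).inv ≫ (G f (W (j k))).map (p k)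
  haveI : ∀ k, Epi (q k) := fun k => by
    haveI h1 : Epi ((G f (W (j k))).map (p k)) := inferInstance
    exact @epi_comp _ _ _ _ _ (e k).inv inferInstance _ h1
  let Q : (∐ fun k => ∐ fun l => (G f (W (j k))).obj (V k l)) ⟶
      ∐ fun k => (G f (W (j k))).obj (N k) := Limits.Sigma.map q
  haveI hQ : Epi Q := inferInstance
  let s := sigmaSigmaIso κ' (fun k l => (G f (W (j k))).obj (V k l))
  let π' : (∐ fun k => (G f (W (j k))).obj (N k)) ⟶ M := π
  haveI hπ' : Epi π' := hπ
  refine ⟨Σ k, κ' k, fun r => (G f (W (j r.1))).obj (V r.1 r.2), s.inv ≫ Q ≫ π', ?_, ?_⟩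
  · intro r
    exact Groth.Agent.Lib.Helper5.LTenFlf.isFinLocFree_tensor _ _ (hW (j r.1))
      (Groth.Agent.Lib.Helper5.PerfPull.isFinLocFree_pullback f _ (hV r.1 r.2))
  · haveI h2 : Epi (Q ≫ π') := @epi_comp _ _ _ _ _ Q hQ π' hπ'
    exact @epi_comp _ _ _ _ _ s.inv inferInstance (Q ≫ π') h2

end Groth.Agent.Lib.Helper5.ResGen
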