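import Mathlib
import Groth.Prelude.Def_Coh
import Groth.Agent.Lib.Helper5.QC.AffColim
import Groth.Agent.Lib.Helper1.QcLoc
import Groth.Agent.Lib.Helper1.AdjBC

/-!
# Sections of a coproduct of quasi-coherent modules over an affine open (helper5)
-/
set_option autoImplicit false
set_option linter.unusedSectionVars false
set_option linter.unusedVariables false
set_option linter.style.haveILetI false
universe u
open CategoryTheory CategoryTheory.Limits Opposite TopologicalSpace AlgebraicGeometry

namespace Groth.Agent.Lib.Helper5.ResGen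

section Affine

variable {R : CommRingCat.{u}}

/-- the global sections functor on `Spec R` sends the coprojections of a coproduct of
quasi-coherent modules to a jointly epimorphic family -/
theorem jointly_epi_Γ_sigma {ι : Type u} (F : ι → (Spec (CommRingCat.of R)).Modules)
    (hF : ∀ k, (F k).IsQuasicoherent) (T : ModuleCat.{u} R)
    (q : (moduleSpecΓFunctor (R := R)).obj (∐ F) ⟶ T)
    (hq0 : ∀ k, (moduleSpecΓFunctor (R := R)).map (Sigma.ι F k) ≫ q = 0) : q = 0 := by
  let ε : moduleSpecΓFunctor (R := R) ⋙ tilde.functor R ⟶ 𝟭 _ :=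
    Scheme.Modules.fromTildeΓNatTrans
  haveI hq : (∐ F).IsQuasicoherent := QC.isQuasicoherent_sigma_affine F hF
  haveI h1 : IsIso (ε.app (∐ F)) := by
    show IsIso (∐ F).fromTildeΓ
    infer_instance
  haveI h2 : ∀ k, IsIso (ε.app (F k)) := fun k => by
    haveI := hF k
    show IsIso (F k).fromTildeΓ
    infer_instance
  let ψ : (∐ F) ⟶ (tilde.functor R).obj T := inv (ε.app (∐ F)) ≫ (tilde.functor R).map q
  have hψ : ψ = 0 := by
    apply Sigma.hom_ext
    intro k
    rw [comp_zero]
    have hn := ε.naturality (Sigma.ι F k)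
    have h3 : ε.app (F k) ≫ Sigma.ι F k ≫ ψ = 0 := by
      have : ε.app (F k) ≫ Sigma.ι F k ≫ ψ =
          (tilde.functor R).map ((moduleSpecΓFunctor (R := R)).map (Sigma.ι F k)) ≫
            (tilde.functor R).map q := by
        show ε.app (F k) ≫ Sigma.ι F k ≫ inv (ε.app (∐ F)) ≫ (tilde.functor R).map q = _
        rw [← Category.assoc (ε.app (F k)), show ε.app (F k) ≫ Sigma.ι F k =
          (tilde.functor R).map ((moduleSpecΓFunctor (R := R)).map (Sigma.ι F k)) ≫
            ε.app (∐ F) from hn.symm]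
        rw [Category.assoc, IsIso.hom_inv_id_assoc]
      rw [this, ← Functor.map_comp, hq0 k, Functor.map_zero]
    exact (cancel_epi (ε.app (F k))).1 (by rw [h3, comp_zero])
  have hq' : (tilde.functor R).map q = 0 := by
    have : (tilde.functor R).map q = ε.app (∐ F) ≫ ψ := by
      show _ = ε.app (∐ F) ≫ inv (ε.app (∐ F)) ≫ (tilde.functor R).map q
      rw [IsIso.hom_inv_id_assoc]
    rw [this, hψ, comp_zero]
  apply (tilde.functor R).map_injective
  rw [hq', Functor.map_zero]

/-- a jointly epimorphic family of module maps spans the target -/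
theorem span_eq_top_of_jointly_epi {M : ModuleCat.{u} R} {ι : Type u} (N : ι → ModuleCat.{u} R)
    (g : ∀ k, N k ⟶ M)
    (h : ∀ (T : ModuleCat.{u} R) (q : M ⟶ T), (∀ k, g k ≫ q = 0) → q = 0) :
    Submodule.span R (⋃ k, Set.range (g k).hom) = ⊤ := by
  set S : Submodule R M := Submodule.span R (⋃ k, Set.range (g k).hom) with hS
  have hq0 : ∀ k, g k ≫ (ModuleCat.ofHom S.mkQ : M ⟶ ModuleCat.of R (M ⧸ S)) = 0 := by
    intro k
    ext x
    show S.mkQ ((g k).hom x) = 0
    rw [Submodule.mkQ_apply, Submodule.Quotient.mk_eq_zero]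
    exact Submodule.subset_span (Set.mem_iUnion.2 ⟨k, ⟨x, rfl⟩⟩)
  have h0 := h _ _ hq0
  rw [eq_top_iff]
  intro x _
  have hx : S.mkQ x = 0 := by
    have := congrArg (fun φ => (ModuleCat.Hom.hom φ) x) h0
    exact this
  rwa [Submodule.mkQ_apply, Submodule.Quotient.mk_eq_zero] at hx

/-- additive form -/
theorem mem_closure_of_jointly_epi {M : ModuleCat.{u} R} {ι : Type u} (N : ι → ModuleCat.{u} R)
    (g : ∀ k, N k ⟶ M)
    (h : ∀ (T : ModuleCat.{u} R) (q : M ⟶ T), (∀ k, g k ≫ q = 0) → q = 0) (x : M) :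
    x ∈ AddSubgroup.closure (⋃ k, Set.range (g k).hom) := by
  have hx : x ∈ Submodule.span R (⋃ k, Set.range (g k).hom) := by
    rw [span_eq_top_of_jointly_epi N g h]; trivial
  have hsmul : ∀ (r : R) (a : M), a ∈ AddSubgroup.closure (⋃ k, Set.range (g k).hom) →
      r • a ∈ AddSubgroup.closure (⋃ k, Set.range (g k).hom) := by
    intro r a ha
    induction ha using AddSubgroup.closure_induction with
    | mem y hy =>
      obtain ⟨k, z, rfl⟩ := Set.mem_iUnion.1 hy
      refine AddSubgroup.subset_closure (Set.mem_iUnion.2 ⟨k, ⟨r • z, ?_⟩⟩)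
      exact map_smul (g k).hom r z
    | zero => rw [smul_zero]; exact AddSubgroup.zero_mem _
    | add a b _ _ ha hb => rw [smul_add]; exact AddSubgroup.add_mem _ ha hb
    | neg a _ ha => rw [smul_neg]; exact AddSubgroup.neg_mem _ ha
  induction hx using Submodule.span_induction with
  | mem y hy => exact AddSubgroup.subset_closure hy
  | zero => exact AddSubgroup.zero_mem _
  | add a b _ _ ha hb => exact AddSubgroup.add_mem _ ha hb
  | smul r a _ ha => exact hsmul r a ha

/-- every global section of a coproduct of quasi-coherent modules on `Spec R` is a finite sum of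
global sections of the summands -/
theorem mem_closure_sigma_affine {ι : Type u} (F : ι → (Spec (CommRingCat.of R)).Modules)
    (hF : ∀ k, (F k).IsQuasicoherent) (s : Γ(∐ F, ⊤)) :
    s ∈ AddSubgroup.closure (⋃ k, Set.range ((Sigma.ι F k).app ⊤)) :=
  mem_closure_of_jointly_epi (fun k => (moduleSpecΓFunctor (R := R)).obj (F k))
    (fun k => (moduleSpecΓFunctor (R := R)).map (Sigma.ι F k))
    (fun T q hq => jointly_epi_Γ_sigma F hF T q hq) s

end Affine

section Scheme

variable {X : Scheme.{u}}

/-- every section over an affine open of a coproduct of quasi-coherent modules is a finite sum of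
sections of the summands -/
theorem mem_closure_sigma {ι : Type u} (E : ι → X.Modules) (hE : ∀ k, (E k).IsQuasicoherent)
    {W : X.Opens} (hW : IsAffineOpen W) (s : Γ(∐ E, W)) :
    s ∈ AddSubgroup.closure (⋃ k, Set.range ((Sigma.ι E k).app W)) := by
  have key : ∀ O : X.Opens, O = W →
      (∀ s : Γ(∐ E, O), s ∈ AddSubgroup.closure (⋃ k, Set.range ((Sigma.ι E k).app O))) →
      ∀ s : Γ(∐ E, W), s ∈ AddSubgroup.closure (⋃ k, Set.range ((Sigma.ι E k).app W)) := by
    rintro O rfl h
    exact h
  refine key (hW.fromSpec ''ᵁ ⊤) (Groth.Agent.Helper1.QcLoc.image_top hW) ?_ s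
  intro s₁
  set j := hW.fromSpec with hj
  let Rj := Scheme.Modules.restrictFunctor j
  haveI : PreservesColimitsOfSize.{u, u} Rj :=
    (Scheme.Modules.restrictAdjunction j).leftAdjoint_preservesColimits
  let e := PreservesCoproduct.iso Rj E
  have he : ∀ k, Sigma.ι (fun k => Rj.obj (E k)) k ≫ e.inv = Rj.map (Sigma.ι E k) := by
    intro k
    rw [PreservesCoproduct.inv_hom]
    exact ι_comp_sigmaComparison Rj E k
  haveI : ∀ k, (Rj.obj (E k)).IsQuasicoherent := fun k => by
    haveI := hE k
    exact inferInstanceAs ((E k).restrict j).IsQuasicoherent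
  let s₂ : Γ(∐ fun k => Rj.obj (E k), ⊤) := e.hom.app ⊤ (show Γ(Rj.obj (∐ E), ⊤) from s₁)
  have hs₂ := mem_closure_sigma_affine (R := Γ(X, W)) (fun k => Rj.obj (E k)) inferInstance s₂
  have hs₁ : (show Γ(Rj.obj (∐ E), ⊤) from s₁) = e.inv.app ⊤ s₂ := by
    show _ = e.inv.app ⊤ (e.hom.app ⊤ _)
    have := congrArg (fun φ => Scheme.Modules.Hom.app φ ⊤ (show Γ(Rj.obj (∐ E), ⊤) from s₁))
      e.hom_inv_id
    exact this.symm
  have hgen : ∀ t : Γ(∐ fun k => Rj.obj (E k), ⊤),
      t ∈ AddSubgroup.closure (⋃ k, Set.range ((Sigma.ι (fun k => Rj.obj (E k)) k).app ⊤)) →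
      e.inv.app ⊤ t ∈ AddSubgroup.closure
        (⋃ k, Set.range ((Sigma.ι E k).app (hW.fromSpec ''ᵁ ⊤))) := by
    intro t ht
    induction ht using AddSubgroup.closure_induction with
    | mem y hy =>
      obtain ⟨k, z, rfl⟩ := Set.mem_iUnion.1 hy
      refine AddSubgroup.subset_closure (Set.mem_iUnion.2 ⟨k, ⟨z, ?_⟩⟩)
      have := congrArg (fun φ => Scheme.Modules.Hom.app φ ⊤ z) (he k)
      exact this.symm
    | zero => rw [map_zero]; exact AddSubgroup.zero_mem _
    | add a b _ _ ha hb => rw [map_add]; exact AddSubgroup.add_mem _ ha hb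
    | neg a _ ha => rw [map_neg]; exact AddSubgroup.neg_mem _ ha
  have := hgen s₂ hs₂
  rw [← hs₁] at this
  exact this

end Scheme

end Groth.Agent.Lib.Helper5.ResGen
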