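import Mathlib
import Groth.Prelude.Def_Coh
import Groth.Agent.Lib.Helper5.ResGen.SigmaSec
import Groth.Agent.Lib.Helper5.QC.CoprodQC
import Groth.Agent.Lib.Helper1.AffPushEpi

/-!
# Pushforward along an affine morphism and coproducts of quasi-coherent modules (helper5)
-/
set_option autoImplicit false
set_option linter.unusedSectionVars false
set_option linter.unusedVariables false
set_option linter.style.haveILetI false
universe u
open CategoryTheory CategoryTheory.Limits Opposite TopologicalSpace AlgebraicGeometry

namespace Groth.Agent.Lib.Helper5.ResGen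

variable {X Y : Scheme.{u}}

/-- for an affine morphism `f`, the comparison `∐ f_* E_k ⟶ f_* (∐ E_k)` is an epimorphism
when the `E_k` are quasi-coherent -/
theorem epi_sigmaComparison_pushforward (f : X ⟶ Y) [IsAffineHom f] {ι : Type u}
    (E : ι → X.Modules) (hE : ∀ k, (E k).IsQuasicoherent) :
    Epi (sigmaComparison (Scheme.Modules.pushforward f) E) := by
  apply Groth.Agent.Helper1.AffPushEpi.epi_of_surjective_on_affine
  intro V hV
  have hW : IsAffineOpen (f ⁻¹ᵁ V) := hV.preimage f
  have hgen : ∀ s : Γ(∐ E, f ⁻¹ᵁ V),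
      s ∈ AddSubgroup.closure (⋃ k, Set.range ((Sigma.ι E k).app (f ⁻¹ᵁ V))) →
      ∃ t, (sigmaComparison (Scheme.Modules.pushforward f) E).app V t = s := by
    intro s hs
    induction hs using AddSubgroup.closure_induction with
    | mem y hy =>
      obtain ⟨_, ⟨k, rfl⟩, z, rfl⟩ := hy
      refine ⟨(Sigma.ι (fun k => (Scheme.Modules.pushforward f).obj (E k)) k).app V z, ?_⟩
      have h := ι_comp_sigmaComparison (Scheme.Modules.pushforward f) E k
      have h2 := congrArg (fun φ => Scheme.Modules.Hom.app φ V z) h
      exact h2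
    | zero => exact ⟨0, map_zero _⟩
    | add a b _ _ ha hb =>
      obtain ⟨ta, hta⟩ := ha
      obtain ⟨tb, htb⟩ := hb
      exact ⟨ta + tb, by rw [map_add, hta, htb]; rfl⟩
    | neg a _ ha =>
      obtain ⟨ta, hta⟩ := ha
      exact ⟨-ta, by rw [map_neg, hta]; rfl⟩
  intro s
  exact hgen s (mem_closure_sigma E hE hW s)

end Groth.Agent.Lib.Helper5.ResGen
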