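import Mathlib
import Groth.Agent.Lib.Helper5.ResDesc.Main
import Groth.Agent.Lib.Helper5.ResGen.PushSigma
import Groth.Agent.Lib.Lead.TilT5

/-!
# Direct images of a generating family along a finite locally free surjection (helper5)
-/
set_option backward.isDefEq.respectTransparency.types false
set_option synthInstance.maxHeartbeats 400000
set_option autoImplicit false
set_option linter.unusedSectionVars false
set_option linter.unusedVariables false
set_option linter.style.haveILetI false
universe u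
open CategoryTheory CategoryTheory.Limits AlgebraicGeometry TopologicalSpace Opposite

namespace Groth.Agent.Lib.Helper5.ResGen

open Groth.Agent.Lib.Helper5.ResDesc
open Groth.Agent.Lead.RH Groth.Agent.Helper1.QcCech Groth.Agent.Helper1.TmulLib
  Groth.Agent.Helper1.TensLib Groth.Agent.Helper1.ProjF Groth.Agent.Helper1.PFrame
  Groth.Agent.Helper2.HomExt

variable {X Y : Scheme.{u}}

/-- for `f` finite locally free and surjective and `N` quasi-coherent on `Y`, there is a finite
locally free `D` on `Y` and an epimorphism `f_* f^* N ⊗ D ⟶ N` -/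
theorem exists_epi_tensor_dual (f : X ⟶ Y) (hf : Mor2.IsFinLocFree f) [Surjective f]
    (N : Y.Modules) [N.IsQuasicoherent] :
    ∃ (D : Y.Modules) (_ : FlatMod.IsFinLocFree D)
      (q : (DCoh.tensorBi.flip.obj D).obj
        ((Scheme.Modules.pushforward f).obj ((Scheme.Modules.pullback f).obj N)) ⟶ N), Epi q := by
  obtain ⟨hfin, hflat, hlfp⟩ := hf
  haveI : IsFinite f := hfin
  haveI : IsAffineHom f := inferInstance
  have hOX : FlatMod.IsFinLocFree (Coh.structureModule X) :=
    Groth.Agent.Lib.Helper5.RHomQC.isFinLocFree_structureModule X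
  haveI : (Coh.structureModule X).IsQuasicoherent :=
    Groth.Agent.Lead.FLF.isQuasicoherent_of_isFinLocFree _ hOX
  have hV : FlatMod.IsFinLocFree ((Scheme.Modules.pushforward f).obj (Coh.structureModule X)) :=
    Groth.Agent.Helper1.VBP.isFinLocFree_pushforward f ⟨hfin, hflat, hlfp⟩ _ hOX
  have hVb := hasBases_of_isFinLocFree hV
  have hD : FlatMod.IsFinLocFree
      (RefHull.dual ((Scheme.Modules.pushforward f).obj (Coh.structureModule X))) :=
    isFinLocFree_of_hasBases (hasBases_dual hVb)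
  haveI hev := epi_ev _ (pos_bases f hVb)
  set V := (Scheme.Modules.pushforward f).obj (Coh.structureModule X) with hVdef
  set D := RefHull.dual V with hDdef
  haveI hpi : IsIso (Groth.Agent.Lib.Helper5.ProjF.piMap f (Coh.structureModule X) N) :=
    Groth.Agent.Lib.Helper5.FBC.isIso_piMap_of_isAffineHom f (Coh.structureModule X) N
  let i2 : (Scheme.Modules.pushforward f).obj ((Scheme.Modules.pullback f).obj N) ≅
      (DCoh.tensorBi.obj V).obj N :=
    ((Scheme.Modules.pushforward f).mapIso (lunit ((Scheme.Modules.pullback f).obj N))).symm ≪≫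
      (asIso (Groth.Agent.Lib.Helper5.ProjF.piMap f (Coh.structureModule X) N)).symm
  let m2 := (DCoh.tensorBi.flip.obj D).mapIso i2
  let m3 := (DCoh.tensorBi.flip.obj D).mapIso
    (Groth.Agent.Helper1.TildeTens.tensorModComm V N)
  let m4 := Groth.Agent.Lib.Helper5.TenAssoc.assocObj (O := Y.sheaf) N V D
  let m5 := (DCoh.tensorBi.obj N).map (ev V (Coh.structureModule Y))
  let m6 := Groth.Agent.Lib.Helper5.LTenFlf.tensorUnitIso N
  haveI : Epi m5 := inferInstance
  refine ⟨D, hD, m2.hom ≫ m3.hom ≫ m4.hom ≫ m5 ≫ m6.hom, ?_⟩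
  have e7 : Epi m6.hom := inferInstance
  have e7' : Epi m5 := inferInstance
  haveI e6 : Epi (m5 ≫ m6.hom) := @epi_comp _ _ _ _ _ m5 e7' m6.hom e7
  have e5 : Epi (m4.hom ≫ m5 ≫ m6.hom) :=
    @epi_comp _ _ _ _ _ m4.hom inferInstance (m5 ≫ m6.hom) e6
  have e4 : Epi (m3.hom ≫ m4.hom ≫ m5 ≫ m6.hom) :=
    @epi_comp _ _ _ _ _ m3.hom inferInstance (m4.hom ≫ m5 ≫ m6.hom) e5
  exact @epi_comp _ _ _ _ _ m2.hom inferInstance (m3.hom ≫ m4.hom ≫ m5 ≫ m6.hom) e4

/-- **direct images of a generating family along a finite locally free surjection generate** -/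
theorem generating_pushforward (f : X ⟶ Y) (hf : Mor2.IsFinLocFree f) [Surjective f]
    {ι : Type u} (E : ι → X.Modules) (hE : ∀ i, (E i).IsQuasicoherent)
    (hgen : ∀ M : X.Modules, M.IsQuasicoherent →
      ∃ (κ : Type u) (j : κ → ι) (π : (∐ fun k : κ => E (j k)) ⟶ M), Epi π)
    (N : Y.Modules) (hN : N.IsQuasicoherent) :
    ∃ (κ : Type u) (j : κ → ι)
      (π : (∐ fun k : κ => (Scheme.Modules.pushforward f).obj (E (j k))) ⟶ N), Epi π := by
  haveI := hN
  obtain ⟨D, hD, q, hq⟩ := exists_epi_tensor_dual f hf N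
  haveI : IsFinite f := hf.1
  haveI : IsAffineHom f := inferInstance
  haveI : D.IsQuasicoherent := Groth.Agent.Lead.FLF.isQuasicoherent_of_isFinLocFree D hD
  haveI hq' : ((Scheme.Modules.pullback f).obj N).IsQuasicoherent :=
    Groth.Agent.Lead.PB.isQuasicoherent_pullback f N
  haveI hD' : ((Scheme.Modules.pullback f).obj D).IsQuasicoherent :=
    Groth.Agent.Lead.PB.isQuasicoherent_pullback f D
  haveI hM : ((DCoh.tensorBi.obj ((Scheme.Modules.pullback f).obj N)).obj
      ((Scheme.Modules.pullback f).obj D)).IsQuasicoherent :=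
    Groth.Agent.Lead.TilT.isQuasicoherent_tensorMod
      ((Scheme.Modules.pullback f).obj N) ((Scheme.Modules.pullback f).obj D)
  obtain ⟨κ, j, π, hπ⟩ := hgen _ hM
  haveI hS : (∐ fun k : κ => E (j k)).IsQuasicoherent :=
    Groth.Agent.Lib.Helper5.QC.isQuasicoherent_sigma (fun k : κ => E (j k)) (fun k => hE (j k))
  haveI hpπ : Epi ((Scheme.Modules.pushforward f).map π) :=
    Groth.Agent.Helper1.AffPushEpi.epi_pushforward_of_isAffineHom f π
  haveI hsc : Epi (sigmaComparison (Scheme.Modules.pushforward f) (fun k : κ => E (j k))) :=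
    epi_sigmaComparison_pushforward f (fun k : κ => E (j k)) (fun k => hE (j k))
  haveI hpi : IsIso (Groth.Agent.Lib.Helper5.ProjF.piMap f ((Scheme.Modules.pullback f).obj N) D) :=
    Groth.Agent.Lib.Helper5.FBC.isIso_piMap_of_isAffineHom f ((Scheme.Modules.pullback f).obj N) D
  let a := sigmaComparison (Scheme.Modules.pushforward f) (fun k : κ => E (j k))
  let b := (Scheme.Modules.pushforward f).map π
  let c := inv (Groth.Agent.Lib.Helper5.ProjF.piMap f ((Scheme.Modules.pullback f).obj N) D)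
  have ec : Epi c := inferInstance
  have e3 : Epi (c ≫ q) := @epi_comp _ _ _ _ _ c ec q hq
  have e2 : Epi (b ≫ c ≫ q) := @epi_comp _ _ _ _ _ b hpπ (c ≫ q) e3
  exact ⟨κ, j, a ≫ b ≫ c ≫ q, @epi_comp _ _ _ _ _ a hsc (b ≫ c ≫ q) e2⟩

end Groth.Agent.Lib.Helper5.ResGen
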